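import Mathlib
import Cfsg.Agent.H29.Fi23T.R

set_option autoImplicit false
set_option maxRecDepth 100000
set_option Elab.async false
set_option linter.all false

namespace H29.Fi23T

noncomputable def pr0 : List (ℕ × ℕ) := [(124, (nat_lit 0x700000400000100000700000200000700002000002800003800000100000000000a00001200001900002100003100004100001000001800002000005100006100000800001000001800002000002800003800000000000800001000001800002000002800003800000000000800001000001800002000002800003800000000000800001000001800002000002800003800000000000800001000001800002000002800003800000000007100008100009200002800003800000000000800001000000700017500000700001000000800001000006900000700001800007100000700002000007900000700002800000100000700006500000700003800000100000700007500000700000000000800000100000000000700000500000700000000002800000100000700002500000700003800000100000700003500000700001000000800001000000100000700004d00000700001800000100000700005500000700000800002000000100000700005d))]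
theorem p0 : chkProg 4 (ivOf ivl) R0 pr0 [(0, w0)] = true := by decide +kernel

noncomputable def pr1 : List (ℕ × ℕ) := [(200, (nat_lit 0x80000100000180000400000380000180000280000200000b10000b90000c90000da0000400000380000180000280000200000180000080000100000180000400000380000e10000e90000f10001020000080000100000180000400000380000180000070000400001010000180000070000490000080000070000010000100000070000b50000070000e100001800000700001000000800001000000100000700004d0000070000180000e900000700016d00000700000800000700004000000100000700007d00000700003800000100000700007500000700000100000a0000d100000900000700002800004100000700000800000700000900000200000a00001a0000110000190000070000180000910000070000200000c90000070000c500000700000800000700002800009100001800000700000100000800000700006500000700000100001000000700009d0000070000280000690000180000070000400000210000180000070000b100002800000700000100002000000700010d0000070000400000010000180000070000e50000070000180000110000070000200000490000070000180000010000070000550000070000400000690000070000200000070000010000180000070000cd00000700000100001000000700009500000700000100000800000700005d00000700004000002900000700003800000100000700010500000700003800000100000700012500000700004000000100000700012d0000070000010000180000070000d500000700000100000000000700002d00000700003000000100000800000700006d)),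
 (200, (nat_lit 0xa00001200002800000700003000000700001100002000000700000200001a0000110000190000220000300000280000070000300000010000070000fd00000700011d0000070000200000070000020000070000020000090002890000070000400001e100000700000200000900026a0000070000380002590000070000020000070000010000090000120000280000070000f500000700001000002000021100000700000200018100000100000a00000700002000000700000200001200000900001100001a00021a0000070000380002290000070000ad00000700002800000700000100000a0000990000090000120001f100000700004000017100000700002000000700000200000900001200009900001100001a0001ba0001c900000700012100000800000700012900001000000700002800000700000100018200017100018100000a0001890000070000180000200000e10000180000070000020001720001a100017100000700000100000a0001290000090000120001610000070000400000810000070000080000070000020000b900000100000a00001200012a00013100013900000700002800000700015100001800000700011200001000001800004000003800001800002800002000000100000a00001200002200003800001800002800002000001800002a00003a00004a000042000049000052000062000072000089000010000018000040000038000018000028000020000018000008000010000018000040000038000018000028000020000018000008000010000018000040000038000018000028000020000018)),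
 (42, (nat_lit 0x700000400000100000700000200000700000200000700000100000700000200000700000200000900033a00000700022900000800000700000200001100031a00000700000100000000000700002500000700029100000100000a0002f10000070000200000180000200001e1000018000007000002000071000001))]
theorem p1 : chkProg 4 (ivOf ivl) R1 pr1 [(0, w1)] = true := by decide +kernel

end H29.Fi23T
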